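import Mathlib
import Cfsg.Agent.FourTwo.AutF4
import Cfsg.Agent.FourTwo.Perf
import Cfsg.Agent.S1077
import Cfsg.Agent.S1054
import Cfsg.Agent.S1061
import Cfsg.Agent.S0312
import Cfsg.Agent.H648.Wf.StTwo

/-!
# The long root elements of `F₄(2)` generate `D₄(2)` (helper648)

* `eq_one_of_comm` : only `1` commutes with all long root elements;
* `exists_kap` : an injective homomorphism `D₄(2) → F₄(2)` onto the subgroup generated by the long root elements;
* `rot_not_mem` : `n₁ n₂` is not contained in this subgroup.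
-/

set_option autoImplicit false

namespace Cfsg.Agent.H648.Wf.DFour

open Cfsg Cfsg.Lie Cfsg.Agent.H648.Wf.StTwo Cfsg.Agent.FourTwo
open Cfsg.Agent.ChevalleyStructure.TwF4.Rel Cfsg.Agent.ChevalleyStructure.TwF4.Tables
open Cfsg.Agent.ChevalleyStructure.TwF4.Torus (all_of)
open Cfsg.Agent.ChevalleyStructure.TwF4.NRoot (sp_lt)
open Cfsg.Agent.FourTwo.Base hiding bar bar_lt
open Cfsg.Agent.FourTwo.Comm Cfsg.Agent.FourTwo.BN Cfsg.Agent.FourTwo.Par Cfsg.Agent.FourTwo.Cent
open Cfsg.Agent.FourTwo.AutF4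

/-- the long roots, in the order of the roots of `D₄` -/
def iota : List ℕ := [0, 1, 15, 4, 21, 22, 2, 16, 5, 23, 17, 6, 41, 30, 24, 42, 31, 45, 25, 26, 43, 32, 46, 47]

/-- the long root belonging to a root of `D₄` -/
def io (r : ℕ) : ℕ := iota.getD r 48

theorem io_lt : ∀ r < 24, io r < 48 := by decide

theorem io_neg : ∀ r < 24, io (chevD4.neg r) = 47 - io r := by decide +kernel

theorem neg_lt : ∀ r < 24, chevD4.neg r < 24 := by decide +kernel

theorem io_inj : ∀ r < 24, ∀ s < 24, io r = io s → r = s := by decide +kernel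

/-- the commutators of the long root elements are those of `D₄` -/
def chkC (r s : ℕ) : Bool := s == r || s == chevD4.neg r ||
  ((cmg (io r) (io s) == (odd (chevD4.commTerms r s)).map io) && (odd (chevD4.commTerms r s)).all fun k => decide (k < 24))

theorem chkC_all : ((List.range 24).all fun r => (List.range 24).all fun s => chkC r s) = true := by decide +kernel

/-- the images of the root elements of `D₄` -/
def yD (r : ℕ) : LL := if r < 24 then x (io r) else 1

theorem yD_lt {r : ℕ} (hr : r < 24) : yD r = x (io r) := if_pos hr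

theorem yD_ge {r : ℕ} (hr : 24 ≤ r) : yD r = 1 := if_neg (by omega)

theorem yD_sq {r : ℕ} (hr : r < 24) : yD r * yD r = 1 := by rw [yD_lt hr, Base.x_mul_self]

theorem map_yD {l : List ℕ} (hl : ∀ k ∈ l, k < 24) : (l.map yD).prod = wd (l.map io) := by
  unfold wd
  rw [List.map_map]
  congr 1
  apply List.map_congr_left
  intro k hk
  exact yD_lt (hl k hk)

theorem yD_comm {r s : ℕ} (hr : r < 24) (hs : s < 24) (h1 : s ≠ r) (h2 : s ≠ chevD4.neg r) :
    (yD s)⁻¹ * (yD r)⁻¹ * yD s * yD r = ((odd (chevD4.commTerms r s)).map yD).prod := by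
  have h3 := all_of (all_of chkC_all hr) hs
  unfold chkC at h3
  simp only [Bool.or_eq_true, beq_iff_eq, h1, h2, false_or, Bool.and_eq_true, List.all_eq_true,
    decide_eq_true_eq] at h3
  rw [map_yD h3.2, ← h3.1, yD_lt hr, yD_lt hs, Base.x_inv, Base.x_inv]
  have hne : io r ≠ io s := fun h => h1 (io_inj r hr s hs h).symm
  have hne' : io r + io s ≠ 47 := by
    intro h
    apply h2
    apply io_inj s hs _ (neg_lt r hr)
    rw [io_neg r hr]
    omega
  have h4 := comm_all (io_lt r hr) (io_lt s hs) hne hne'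
  calc x (io s) * x (io r) * x (io s) * x (io r)
      = x (io s) * (x (io r) * x (io s)) * x (io r) := by simp only [mul_assoc]
    _ = (x (io s) * x (io s)) * wd (cmg (io r) (io s)) * (x (io r) * x (io r)) := by rw [h4]; simp only [mul_assoc]
    _ = wd (cmg (io r) (io s)) := by rw [Base.x_mul_self, Base.x_mul_self, one_mul, mul_one]

/-- the homomorphism from the Steinberg group -/
theorem exists_psi : ∃ f : chevD4.SteinbergGroup (ZMod 2) →* LL, ∀ r < 24, f (chevD4.stGen (ZMod 2) r 1) = x (io r) := by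
  have hn : chevD4.nroots = 24 := rfl
  obtain ⟨f, hf⟩ := exists_hom chevD4 yD (fun r hr => yD_ge (by omega)) (fun r hr => yD_sq (by omega))
    (fun r hr => neg_lt r (by omega)) (fun r s hr hs h1 h2 => yD_comm (by omega) (by omega) h1 h2)
  exact ⟨f, fun r hr => by rw [hf, yy_one, yD_lt hr]⟩

/-! ### the centraliser of the long root elements -/

theorem closed_seg : closedB [45, 46, 47].contains = true ∧ closedB [46, 47].contains = true ∧
    closedB [47].contains = true := by decide +kernel

theorem norm_seg : normB posP [45, 46, 47].contains = true ∧ normB posP [46, 47].contains = true ∧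
    normB posP [47].contains = true := by decide +kernel

theorem refl_seg : refl 3 47 = 46 ∧ refl 2 46 = 45 ∧ refl 1 45 = 43 := by decide +kernel

/-- an element commuting with the long root elements lies in the minimal parabolic subgroup of `p₁` -/
theorem mem_PP {c : LL} (h : ∀ r ∈ [45, 46, 47], c * x r = x r * c) : c ∈ PP 0 := by
  let H : Subgroup LL := Subgroup.normalizer (RG [45, 46, 47].contains : Set LL) ⊓
    (Subgroup.normalizer (RG [46, 47].contains : Set LL) ⊓ Subgroup.normalizer (RG [47].contains : Set LL))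
  have hU : U ≤ H := by
    rw [U_eq]
    exact le_inf (le_normalizer norm_seg.1) (le_inf (le_normalizer norm_seg.2.1) (le_normalizer norm_seg.2.2))
  have hcen : ∀ l : List ℕ, (∀ r ∈ l, r ∈ [45, 46, 47]) → c ∈ Subgroup.normalizer (RG l.contains : Set LL) := by
    intro l hl
    have h1 : RG l.contains ≤ Subgroup.centralizer {c} := RG_le fun r hr hp => by
      rw [Subgroup.mem_centralizer_singleton_iff]
      exact (h r (hl r (by simpa using hp))).symm
    rw [Subgroup.mem_normalizer_iff]
    intro g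
    constructor
    · intro hg
      have h2 := Subgroup.mem_centralizer_singleton_iff.1 (h1 hg)
      rw [← h2, mul_inv_cancel_right]
      exact hg
    · intro hg
      have h2 := Subgroup.mem_centralizer_singleton_iff.1 (h1 hg)
      have h3 : c * g * c⁻¹ = g := by
        have h4 : c * g = c * (c * g * c⁻¹) := by
          rw [← h2]; group
        have h5 : c * g * c⁻¹ = g := (mul_left_cancel h4).symm
        exact h5
      rwa [h3] at hg
  have hc : c ∈ H := ⟨hcen _ fun r hr => hr, hcen _ fun r hr => List.mem_cons_of_mem _ hr,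
    hcen _ fun r hr => List.mem_cons_of_mem _ (List.mem_cons_of_mem _ hr)⟩
  rw [parabolic_eq hU] at hc
  refine (sup_le (U_le_PP 0) ?_ : U ⊔ Subgroup.closure {g | ∃ i < 4, n i ∈ H ∧ g = n i} ≤ PP 0) hc
  rw [Subgroup.closure_le]
  rintro _ ⟨i, hi, hn, rfl⟩
  have h0 : i = 0 := by
    obtain ⟨h1, h2, h3⟩ := hn
    have e1 := refl_seg
    rcases (show i = 0 ∨ i = 1 ∨ i = 2 ∨ i = 3 by omega) with rfl | rfl | rfl | rfl
    · rfl
    · exfalso
      have h4 := (Subgroup.mem_normalizer_iff.1 h1 (x 45)).1 (x_mem_RG (by omega) (by decide))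
      rw [n_conj (by omega) (by omega), e1.2.2, x_mem_RG_iff closed_seg.1 (by omega)] at h4
      exact absurd h4 (by decide)
    · exfalso
      have h4 := (Subgroup.mem_normalizer_iff.1 h2 (x 46)).1 (x_mem_RG (by omega) (by decide))
      rw [n_conj (by omega) (by omega), e1.2.1, x_mem_RG_iff closed_seg.2.1 (by omega)] at h4
      exact absurd h4 (by decide)
    · exfalso
      have h4 := (Subgroup.mem_normalizer_iff.1 h3 (x 47)).1 (x_mem_RG (by omega) (by decide))
      rw [n_conj (by omega) (by omega), e1.1, x_mem_RG_iff closed_seg.2.2 (by omega)] at h4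
      exact absurd h4 (by decide)
  rw [h0]
  exact n_mem_PP (by omega)

/-- two different products of root elements -/
theorem x30_ne : x 37 * x 41 ≠ 1 := by
  intro h
  have h1 : x 37 = x 41 := by
    rw [← Base.x_inv 41]
    exact eq_inv_of_mul_eq_one_left h
  exact absurd (x_inj (by omega) (by omega) h1) (by decide)

theorem not_comm_33 : x 33 * x 30 ≠ x 30 * x 33 := by
  intro h
  have h1 := comm_all (r := 33) (s := 30) (by omega) (by omega) (by omega) (by omega)
  have h2 : cmg 33 30 = [37, 41] := by decide +kernel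
  rw [h2, h, wd_cons, wd_one] at h1
  have h3 : x 30 * (x 37 * x 41) * x 33 = x 30 * 1 * x 33 := by rw [← h1, mul_one]
  exact x30_ne (mul_left_cancel (mul_right_cancel h3))

theorem not_comm_14 : x 14 * x 41 ≠ x 41 * x 14 := by
  intro h
  have h1 := comm_all (r := 14) (s := 41) (by omega) (by omega) (by omega) (by omega)
  have h2 : cmg 14 41 = [37, 30] := by decide +kernel
  rw [h2, h, wd_cons, wd_one] at h1
  have h3 : x 41 * (x 37 * x 30) * x 14 = x 41 * 1 * x 14 := by rw [← h1, mul_one]
  have h4 : x 37 * x 30 = 1 := mul_left_cancel (mul_right_cancel h3)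
  have h5 : x 37 = x 30 := by
    rw [← Base.x_inv 30]
    exact eq_inv_of_mul_eq_one_left h4
  exact absurd (x_inj (by omega) (by omega) h5) (by decide)

theorem comm_14 : x 14 * x 30 = x 30 * x 14 :=
  comm_one (by omega) (by omega) (by omega) (by decide +kernel)

/-- **Only `1` commutes with all long root elements.** -/
theorem eq_one_of_comm {c : LL} (h : ∀ r < 24, c * x (io r) = x (io r) * c) : c = 1 := by
  have hl : ∀ s ∈ iota, c * x s = x s * c := by
    intro s hs
    obtain ⟨r, hr, rfl⟩ := List.getElem_of_mem hs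
    have hr' : r < 24 := hr
    have h1 := h r hr'
    have h2 : io r = iota[r] := by
      unfold io
      exact List.getD_eq_getElem _ _ hr
    rwa [h2] at h1
  have hc1 : c ∈ PP 0 := mem_PP fun r hr => hl r (by
    simp only [List.mem_cons, List.not_mem_nil, or_false] at hr
    rcases hr with rfl | rfl | rfl <;> decide)
  -- the conjugate under the longest element
  have hc2 : w0 * c * w0⁻¹ ∈ PP 0 := mem_PP fun r hr => by
    have h1 : r < 48 ∧ 47 - r ∈ iota := by
      simp only [List.mem_cons, List.not_mem_nil, or_false] at hr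
      rcases hr with rfl | rfl | rfl <;> decide
    have h2 := hl _ h1.2
    have h3 : w0 * x (47 - r) * w0⁻¹ = x r := by
      rw [w0_conj (by omega)]
      congr 1
      omega
    rw [← h3]
    calc w0 * c * w0⁻¹ * (w0 * x (47 - r) * w0⁻¹) = w0 * (c * x (47 - r)) * w0⁻¹ := by group
      _ = w0 * (x (47 - r) * c) * w0⁻¹ := by rw [h2]
      _ = _ := by group
  have hsp : sp 0 = 33 := by decide
  have hY : x 14 ∈ PP 0 := x_mem_RG (by omega) (by decide)
  have hX : x 33 ∈ PP 0 := x_mem_RG (by omega) (by decide)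
  obtain ⟨u, hu, hcu⟩ := PP_cases (i := 0) (by omega) hc2
  rw [hsp] at hcu
  have hv : w0⁻¹ * u * w0 ∈ Vo := by
    rw [mem_Vo_iff']  at hu
    exact hu
  have e14 : w0⁻¹ * x 14 * w0 = x 33 := by
    have h3 : w0 * x 33 * w0⁻¹ = x 14 := w0_conj (by omega)
    rw [← h3]; group
  have e33 : w0⁻¹ * x 33 * w0 = x 14 := by
    have h3 : w0 * x 14 * w0⁻¹ = x 33 := w0_conj (by omega)
    rw [← h3]; group
  have hc3 : ∃ v ∈ Vo, c = v ∨ c = v * x 33 ∨ c = v * x 33 * x 14 := by
    refine ⟨w0⁻¹ * u * w0, hv, ?_⟩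
    have e : c = w0⁻¹ * (w0 * c * w0⁻¹) * w0 := by group
    rcases hcu with h1 | h1 | h1
    · left
      rw [e, h1]
    · right; left
      rw [e, h1, ← e14]; group
    · right; right
      rw [e, h1]
      have : w0⁻¹ * (u * x (47 - 33) * x 33) * w0 = w0⁻¹ * u * w0 * (w0⁻¹ * x 14 * w0) * (w0⁻¹ * x 33 * w0) := by
        group
      rw [this, e14, e33]
  obtain ⟨v, hv, hcv⟩ := hc3
  have hvP : v ∈ PP 0 := by
    rcases hcv with h1 | h1 | h1
    · rw [← h1]; exact hc1
    · have : v = c * (x 33)⁻¹ := by rw [h1]; group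
      rw [this]
      exact mul_mem hc1 (inv_mem hX)
    · have : v = c * (x 14)⁻¹ * (x 33)⁻¹ := by rw [h1]; group
      rw [this]
      exact mul_mem (mul_mem hc1 (inv_mem hY)) (inv_mem hX)
  have h30 := hl 30 (by decide)
  have h41 := hl 41 (by decide)
  -- the products containing `x 33` do not commute with `x 30`
  have key : ∀ a b : LL, a * x 30 = x 30 * a → b * x 30 = x 30 * b → c = a * x 33 * b → False := by
    intro a b ha hb hab
    apply not_comm_33
    rw [hab] at h30
    have e1 : a * x 33 * b * x 30 = a * (x 33 * x 30) * b := by rw [mul_assoc (a * x 33), hb]; group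
    have e2 : x 30 * (a * x 33 * b) = a * (x 30 * x 33) * b := by
      rw [← mul_assoc, ← mul_assoc, ← ha]; group
    rw [e1, e2] at h30
    exact mul_left_cancel (mul_right_cancel h30)
  have hv2 : v = 1 ∨ v = x 14 := by
    have h1 := PP_inf_Vo (i := 0) (by omega) hvP hv
    rwa [hsp] at h1
  have hone : (1 : LL) * x 30 = x 30 * 1 := by rw [one_mul, mul_one]
  have hvc : v * x 30 = x 30 * v := by
    rcases hv2 with rfl | rfl
    · exact hone
    · exact comm_14
  rcases hcv with h1 | h1 | h1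
  · rcases hv2 with h2 | h2
    · rw [h1, h2]
    · exfalso
      rw [h1, h2] at h41
      exact not_comm_14 h41
  · exact (key v 1 hvc hone (by rw [mul_one]; exact h1)).elim
  · exact (key v (x 14) hvc comm_14 h1).elim

/-! ### the embedding of `D₄(2)` -/

/-- the group `D₄(2)` -/
abbrev DD : Type := ↥(chevD4.group (ZMod 2))

theorem inList : chevD4 ∈ [chevG2, chevB2, chevD4, chevF4, chevE6, chevE7, chevE8] := by simp

theorem simple_DD : IsSimpleGroup DD ∧ ¬ IsMulCommutative DD :=
  Cfsg.Agent.S1054.result (F := ZMod 2) chevD4 (by simp)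

theorem card_DD : Nat.card DD = 2 ^ 12 * (3 * 15 * 15 * 63) := by
  have h := Cfsg.Agent.S1061.result (F := ZMod 2) (ZMod.card 2)
  norm_num at h ⊢
  exact h

instance : Finite DD := Nat.finite_of_card_ne_zero (by rw [card_DD]; norm_num)

/-- **`D₄(2)` in `F₄(2)`.** -/
theorem exists_kap : ∃ κ : DD →* LL, Function.Injective κ ∧ ∀ (r : ℕ), r < 24 → ∀ g : DD,
    ((g : GL chevD4.Idx (ZMod 2)) : Matrix chevD4.Idx chevD4.Idx (ZMod 2)) = chevD4.x (ZMod 2) r 1 → κ g = x (io r) := by
  obtain ⟨θ, hsurj, hker, hθ⟩ := Cfsg.Agent.S1077.result (K := ZMod 2) chevD4 inList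
  obtain ⟨f, hf⟩ := exists_psi
  have hle : θ.ker ≤ f.ker := by
    intro z hz
    rw [hker] at hz
    rw [MonoidHom.mem_ker]
    apply eq_one_of_comm
    intro r hr
    rw [← hf r hr, ← map_mul, ← map_mul, Subgroup.mem_center_iff.1 hz]
  let κ : DD →* LL := MonoidHom.liftOfSurjective θ hsurj ⟨f, hle⟩
  have hκ : ∀ z, κ (θ z) = f z := fun z => MonoidHom.liftOfRightInverse_comp_apply θ _ _ ⟨f, hle⟩ z
  have hx : ∀ (r : ℕ), r < 24 → ∀ g : DD,
      ((g : GL chevD4.Idx (ZMod 2)) : Matrix chevD4.Idx chevD4.Idx (ZMod 2)) = chevD4.x (ZMod 2) r 1 →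
        κ g = x (io r) := by
    intro r hr g hg
    have h1 : g = θ (chevD4.stGen (ZMod 2) r 1) := by
      apply Subtype.ext
      apply Units.ext
      rw [hg, hθ r 1 hr]
    rw [h1, hκ, hf r hr]
  refine ⟨κ, ?_, hx⟩
  rw [← MonoidHom.ker_eq_bot_iff]
  have hs := simple_DD.1
  rcases hs.eq_bot_or_eq_top_of_normal κ.ker inferInstance with h | h
  · exact h
  · exfalso
    have h1 : θ (chevD4.stGen (ZMod 2) 0 1) ∈ κ.ker := by rw [h]; exact Subgroup.mem_top _
    rw [MonoidHom.mem_ker, hκ, hf 0 (by omega)] at h1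
    exact x_ne_one (io_lt 0 (by omega)) h1

/-- the embedding -/
noncomputable def kap : DD →* LL := exists_kap.choose

theorem kap_injective : Function.Injective kap := exists_kap.choose_spec.1

/-- the root elements of `D₄(2)` -/
noncomputable def xr (r : ℕ) : DD := if h : r < 24 then
  ⟨Cfsg.Agent.ChevalleyStructure.Elts.xG inList r 1, Subgroup.subset_closure ⟨⟨r, h⟩, 1, by
    rw [Cfsg.Agent.ChevalleyStructure.Elts.coe_xG]
    exact Cfsg.Agent.ChevalleyStructure.Elts.x_of_lt h 1⟩⟩ else 1

theorem coe_xr {r : ℕ} (hr : r < 24) :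
    ((xr r : DD) : GL chevD4.Idx (ZMod 2)) = Cfsg.Agent.ChevalleyStructure.Elts.xG inList r 1 := by
  unfold xr
  rw [dif_pos hr]

theorem kap_xr {r : ℕ} (hr : r < 24) : kap (xr r) = x (io r) :=
  exists_kap.choose_spec.2 r hr _ (by rw [coe_xr hr]; rfl)

/-- `D₄(2)` is generated by its root elements -/
theorem closure_xr : Subgroup.closure {g : DD | ∃ r < 24, g = xr r} = ⊤ := by
  have hinj : Function.Injective (chevD4.group (ZMod 2)).subtype := (chevD4.group (ZMod 2)).subtype_injective
  apply Subgroup.map_injective hinj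
  rw [MonoidHom.map_closure, ← MonoidHom.range_eq_map, Subgroup.range_subtype]
  apply le_antisymm
  · rw [Subgroup.closure_le]
    rintro _ ⟨g, -, rfl⟩
    exact g.2
  · unfold ChevalleyDatum.group
    rw [Subgroup.closure_le]
    rintro g ⟨r, t, hg⟩
    have hr : r.val < 24 := r.2
    have hg' : g = Cfsg.Agent.ChevalleyStructure.Elts.xG inList r.val t := by
      apply Units.ext
      rw [hg, Cfsg.Agent.ChevalleyStructure.Elts.coe_xG]
      exact (Cfsg.Agent.ChevalleyStructure.Elts.x_of_lt r.2 t).symm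
    rcases zmod_two t with rfl | rfl
    · rw [hg', Cfsg.Agent.ChevalleyStructure.Elts.xG_zero]
      exact one_mem _
    · rw [hg', ← coe_xr hr]
      exact Subgroup.subset_closure ⟨xr r.val, ⟨r.val, hr, rfl⟩, rfl⟩

/-- the subgroup generated by the long root elements -/
theorem range_kap : kap.range = Subgroup.closure {g : LL | ∃ r < 24, g = x (io r)} := by
  rw [MonoidHom.range_eq_map, ← closure_xr, MonoidHom.map_closure]
  congr 1
  ext g
  constructor
  · rintro ⟨_, ⟨r, hr, rfl⟩, rfl⟩
    exact ⟨r, hr, kap_xr hr⟩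
  · rintro ⟨r, hr, rfl⟩
    exact ⟨xr r, ⟨r, hr, rfl⟩, kap_xr hr⟩

/-! ### the Borel subgroup of `D₄(2)` -/

theorem diag_eq_bot : chevD4.diagonalSubgroup (ZMod 2) = ⊥ := by
  rw [eq_bot_iff]
  unfold ChevalleyDatum.diagonalSubgroup
  rw [Subgroup.closure_le]
  rintro g ⟨r, t, hr, ht, hg⟩
  have ht1 : t = 1 := (zmod_two t).resolve_left ht
  subst ht1
  rw [SetLike.mem_coe, Subgroup.mem_bot]
  apply Units.ext
  rw [hg]
  have hsq : ∀ s, chevD4.x (ZMod 2) s 1 * chevD4.x (ZMod 2) s 1 = 1 := by
    intro s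
    rw [Cfsg.Agent.ChevalleyStructure.Elts.x_add inList]
    have : (1 + 1 : ZMod 2) = 0 := by decide
    rw [this, Cfsg.Agent.ChevalleyStructure.Elts.x_zero inList]
  unfold ChevalleyDatum.hMat ChevalleyDatum.wordMat ChevalleyDatum.hWord ChevalleyDatum.nWord
  have e1 : (-(1 : ZMod 2)⁻¹) = 1 := by rw [inv_one]; decide
  have e2 : (-1 : ZMod 2) = 1 := by decide
  rw [e2, e1]
  simp only [List.map_append, List.map_cons, List.map_nil, List.prod_append, List.prod_cons, List.prod_nil, mul_one]
  set a := chevD4.x (ZMod 2) r 1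
  set b := chevD4.x (ZMod 2) (chevD4.neg r) 1
  have ha : a * a = 1 := hsq r
  have hb : b * b = 1 := hsq _
  calc a * (b * a) * (a * (b * a)) = a * (b * ((a * a) * (b * a))) := by simp only [mul_assoc]
    _ = a * ((b * b) * a) := by rw [ha, one_mul]; simp only [mul_assoc]
    _ = 1 := by rw [hb, one_mul, ha]

/-- the Sylow subgroup -/
def BU : Subgroup DD := Subgroup.closure {g : DD | ∃ r, 12 ≤ r ∧ r < 24 ∧ g = xr r}

theorem pos_iff : ∀ r < 24, (chevD4.IsPosRoot r ↔ 12 ≤ r) := by decide +kernel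

theorem map_BU : BU.map (chevD4.group (ZMod 2)).subtype = chevD4.posUnipotent (ZMod 2) := by
  unfold BU
  rw [MonoidHom.map_closure]
  apply le_antisymm
  · rw [Subgroup.closure_le]
    rintro _ ⟨_, ⟨r, h1, h2, rfl⟩, rfl⟩
    refine Subgroup.subset_closure ⟨r, 1, (pos_iff r h2).2 h1, ?_⟩
    show ((xr r : GL chevD4.Idx (ZMod 2)) : Matrix chevD4.Idx chevD4.Idx (ZMod 2)) = _
    rw [coe_xr h2]
    rfl
  · unfold ChevalleyDatum.posUnipotent
    rw [Subgroup.closure_le]
    rintro g ⟨r, t, hr, hg⟩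
    have hr' : r < 24 := hr.1
    have hg' : g = Cfsg.Agent.ChevalleyStructure.Elts.xG inList r t := Units.ext hg
    rcases zmod_two t with rfl | rfl
    · rw [hg', Cfsg.Agent.ChevalleyStructure.Elts.xG_zero]
      exact one_mem _
    · rw [hg', ← coe_xr hr']
      exact Subgroup.subset_closure ⟨xr r, ⟨r, (pos_iff r hr').1 hr, hr', rfl⟩, rfl⟩

theorem borel_eq : (chevD4.borelSubgroup (ZMod 2)).subgroupOf (chevD4.group (ZMod 2)) = BU := by
  have h1 : chevD4.borelSubgroup (ZMod 2) = BU.map (chevD4.group (ZMod 2)).subtype := by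
    unfold ChevalleyDatum.borelSubgroup
    rw [diag_eq_bot, sup_bot_eq, map_BU]
  rw [h1]
  ext g
  rw [Subgroup.mem_subgroupOf]
  constructor
  · rintro ⟨h, hh, e⟩
    have : h = g := Subtype.ext e
    rwa [← this]
  · intro hg
    exact ⟨g, hg, rfl⟩

/-- `BU` is its own normaliser -/
theorem normalizer_BU : Subgroup.normalizer (BU : Set DD) = BU := by
  obtain ⟨P, hPB, -, -⟩ := Cfsg.Agent.S1042.result (F := ZMod 2) chevD4 inList
  have hself := Cfsg.Agent.S0312.result P (J := ∅) (Set.empty_subset _)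
  have hpar : P.parabolic ∅ = P.B := by
    show P.B ⊔ Subgroup.closure ∅ = P.B
    rw [Subgroup.closure_empty, sup_bot_eq]
  rw [hpar, hPB, borel_eq] at hself
  exact hself

theorem io_pos : ∀ r, 12 ≤ r → r < 24 → 24 ≤ io r := by
  intro r h1 h2
  have : ∀ q < 12, 24 ≤ io (12 + q) := by decide
  have h3 := this (r - 12) (by omega)
  rwa [Nat.add_sub_cancel' h1] at h3

theorem kap_BU {g : DD} (hg : g ∈ BU) : kap g ∈ U := by
  have h1 : BU ≤ U.comap kap := by
    unfold BU
    rw [Subgroup.closure_le]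
    rintro _ ⟨r, h1, h2, rfl⟩
    show kap (xr r) ∈ U
    rw [kap_xr h2]
    exact x_mem_U (io_pos r h1 h2) (io_lt r h2)
  exact h1 hg

/-! ### the rotation -/

/-- the element of order three permuting the three outer fundamental roots of `D₄` -/
def rot : LL := n 0 * n 1

/-- its action on the roots of `D₄` -/
def rh (r : ℕ) : ℕ :=
  [0, 1, 3, 6, 8, 11, 2, 4, 7, 9, 5, 10, 13, 18, 14, 16, 19, 21, 12, 15, 17, 20, 22, 23].getD r 24

theorem rot_conj' {r : ℕ} (hr : r < 48) : rot * x r * rot⁻¹ = x (refl 0 (refl 1 r)) := by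
  have h1 := n_conj (i := 1) (by omega) hr
  have h2 := n_conj (i := 0) (by omega) (refl_lt 1 r (by omega) hr)
  rw [← h2, ← h1]
  unfold rot
  group

theorem rh_tab : ∀ r < 24, rh r < 24 ∧ refl 0 (refl 1 (io r)) = io (rh r) := by decide +kernel

theorem rh_pos : ∀ r < 24, 12 ≤ r → 12 ≤ rh r := by decide

theorem rot_conj {r : ℕ} (hr : r < 24) : rot * x (io r) * rot⁻¹ = x (io (rh r)) := by
  rw [rot_conj' (io_lt r hr), (rh_tab r hr).2]

theorem rot_pow : rot ^ 3 = 1 := by
  have hb : n 0 * n 1 * n 0 = n 1 * n 0 * n 1 := (bB_iff (by omega) (by omega)).1 (by decide +kernel)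
  have h0 : n 0 * n 0 = 1 := n_mul_self (by omega)
  have h1 : n 1 * n 1 = 1 := n_mul_self (by omega)
  have e : rot ^ 3 = (n 0 * n 1 * n 0) * (n 1 * n 0 * n 1) := by
    unfold rot
    rw [pow_succ, pow_succ, pow_one]
    simp only [mul_assoc]
  rw [e, ← hb]
  calc n 0 * n 1 * n 0 * (n 0 * n 1 * n 0) = n 0 * n 1 * (n 0 * n 0) * n 1 * n 0 := by simp only [mul_assoc]
    _ = 1 := by rw [h0, mul_one, mul_assoc (n 0), h1, mul_one, h0]

theorem rot_ne_one : rot ≠ 1 := by
  intro h
  have h1 := rot_conj (r := 12) (by omega)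
  rw [h, one_mul, inv_one, mul_one] at h1
  have h2 := x_inj (io_lt 12 (by omega)) (io_lt _ (rh_tab 12 (by omega)).1) h1
  exact absurd h2 (by decide)

/-- conjugation by an element of order three -/
theorem mem_normalizer_of_le {G : Type*} [Group G] {H : Subgroup G} {y : G} (hy : y ^ 3 = 1)
    (h : ∀ g ∈ H, y * g * y⁻¹ ∈ H) : y ∈ Subgroup.normalizer (H : Set G) := by
  rw [Subgroup.mem_normalizer_iff]
  intro g
  refine ⟨fun hg => h g hg, fun hg => ?_⟩
  have h1 := h _ (h _ hg)
  have hy' : y * y * y = 1 := by rw [← hy, pow_succ, pow_two]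
  have e : y * (y * (y * g * y⁻¹) * y⁻¹) * y⁻¹ = (y * y * y) * g * (y * y * y)⁻¹ := by group
  rw [e, hy', one_mul, inv_one, mul_one] at h1
  exact h1

/-- conjugation maps a generated subgroup into itself -/
theorem conj_closure {G : Type*} [Group G] {S : Set G} {H : Subgroup G} {y : G} (h : ∀ g ∈ S, y * g * y⁻¹ ∈ H)
    {g : G} (hg : g ∈ Subgroup.closure S) : y * g * y⁻¹ ∈ H := by
  have h1 : Subgroup.closure S ≤ H.comap (MulAut.conj y).toMonoidHom := by
    rw [Subgroup.closure_le]
    intro s hs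
    exact h s hs
  exact h1 hg

theorem rot_mem_normalizer : rot ∈ Subgroup.normalizer (kap.range : Set LL) := by
  refine mem_normalizer_of_le rot_pow fun g hg => ?_
  rw [range_kap] at hg
  refine conj_closure ?_ hg
  rintro _ ⟨r, hr, rfl⟩
  rw [rot_conj hr, ← kap_xr (rh_tab r hr).1]
  exact ⟨_, rfl⟩

/-- **The rotation is not contained in `D₄(2)`.** -/
theorem rot_not_mem : rot ∉ kap.range := by
  rintro ⟨y, hy⟩
  have hy3 : y ^ 3 = 1 := by
    apply kap_injective
    rw [map_pow, hy, rot_pow, map_one]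
  have h1 : y ∈ Subgroup.normalizer (BU : Set DD) := by
    refine mem_normalizer_of_le hy3 fun g hg => ?_
    refine conj_closure ?_ hg
    rintro _ ⟨r, hr, hr', rfl⟩
    have h3 : y * xr r * y⁻¹ = xr (rh r) := by
      apply kap_injective
      rw [map_mul, map_mul, map_inv, hy, kap_xr hr', kap_xr (rh_tab r hr').1, rot_conj hr']
    rw [h3]
    exact Subgroup.subset_closure ⟨rh r, rh_pos r hr' hr, (rh_tab r hr').1, rfl⟩
  rw [normalizer_BU] at h1
  have h2 := kap_BU h1
  rw [hy] at h2
  obtain ⟨k, hk⟩ := isPGroup_U ⟨rot, h2⟩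
  have h3 : rot ^ 2 ^ k = 1 := by
    have := congrArg (Subtype.val) hk
    simpa using this
  have h4 : rot ^ Nat.gcd 3 (2 ^ k) = 1 := pow_gcd_eq_one.2 ⟨rot_pow, h3⟩
  have h5 : Nat.gcd 3 (2 ^ k) = 1 := Nat.Coprime.pow_right k (by norm_num)
  rw [h5, pow_one] at h4
  exact rot_ne_one h4

/-! ### the normaliser -/

theorem card_range : Nat.card kap.range = 2 ^ 12 * (3 * 15 * 15 * 63) := by
  rw [← card_DD]
  exact Nat.card_congr (Equiv.ofInjective kap kap_injective).symm

/-- an element of order three in the normaliser outside the subgroup -/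
theorem three_dvd_index {G : Type*} [Group G] [Finite G] {L : Subgroup G} {y : G}
    (hy : y ∈ Subgroup.normalizer (L : Set G)) (h3 : y ^ 3 = 1) (hL : y ∉ L) :
    3 ∣ (L.subgroupOf (Subgroup.normalizer (L : Set G))).index := by
  by_contra hcon
  apply hL
  set H := Subgroup.normalizer (L : Set G) with hH
  have hn : (L.subgroupOf H).Normal := Subgroup.normal_in_normalizer
  let q : H ⧸ L.subgroupOf H := QuotientGroup.mk ⟨y, hy⟩
  have h1 : q ^ 3 = 1 := by
    show ((QuotientGroup.mk (⟨y, hy⟩ : H) : H ⧸ L.subgroupOf H)) ^ 3 = 1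
    rw [← QuotientGroup.mk_pow]
    have : (⟨y, hy⟩ : H) ^ 3 = 1 := Subtype.ext h3
    rw [this]; rfl
  have h2 : q ^ (L.subgroupOf H).index = 1 := by
    rw [Subgroup.index_eq_card]
    exact pow_card_eq_one'
  have h4 : q ^ Nat.gcd 3 (L.subgroupOf H).index = 1 := pow_gcd_eq_one.2 ⟨h1, h2⟩
  have h5 : Nat.gcd 3 (L.subgroupOf H).index = 1 := (Nat.Prime.coprime_iff_not_dvd (by norm_num)).2 hcon
  rw [h5, pow_one] at h4
  exact Subgroup.mem_subgroupOf.1 ((QuotientGroup.eq_one_iff _).1 h4)

/-- **The normaliser of the subgroup generated by the long root elements has index prime to three.** -/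
theorem index_normalizer : ¬ 3 ∣ (Subgroup.normalizer (kap.range : Set LL)).index := by
  rintro ⟨a, ha⟩
  obtain ⟨b, hb⟩ := three_dvd_index rot_mem_normalizer rot_pow rot_not_mem
  set H := Subgroup.normalizer (kap.range : Set LL) with hH
  have hle : kap.range ≤ H := Subgroup.le_normalizer
  have h1 : Nat.card kap.range * (kap.range.subgroupOf H).index = Nat.card H := by
    rw [← Subgroup.card_mul_index (kap.range.subgroupOf H)]
    congr 1
    exact (Nat.card_congr (Subgroup.subgroupOfEquivOfLe hle).toEquiv).symm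
  have h2 := Subgroup.card_mul_index H
  rw [← h1, Cfsg.Agent.FourTwo.Perf.card_LL, card_range, ha, hb] at h2
  have h3 : 175 * (3 * (b * a)) = 2 ^ 12 * 270725 := by
    have e1 : 2 ^ 12 * (3 * 15 * 15 * 63) * (3 * b) * (3 * a) = 2 ^ 12 * 3 ^ 6 * (175 * (3 * (b * a))) := by ring
    have e2 : 2 ^ 24 * (3 * 63 * 255 * 4095) = 2 ^ 12 * 3 ^ 6 * (2 ^ 12 * 270725) := by norm_num
    rw [e1, e2] at h2
    exact Nat.eq_of_mul_eq_mul_left (by norm_num) h2
  omega

end Cfsg.Agent.H648.Wf.DFour
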