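import Mathlib
import Cfsg.Agent.H648.Wf.DFour
import Cfsg.Agent.H897.WfBase
import Cfsg.Agent.ChevalleyStructure.FieldIso

/-!
# S3826, the row of `F₄(2)` (helper648, task 4275)

`wf_f4_two` : `WfRow 3` for `F₄(F)`, `|F| = 2`: every element of order three has a conjugate which normalises the
subgroup `D₄(2)` generated by the long root elements (its normaliser has index prime to three), and no element of
order three centralises this subgroup.
-/

set_option autoImplicit false

namespace Cfsg.Agent.H648.Wf.F4Two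

open Cfsg Cfsg.Lie Cfsg.Agent.FourTwo Cfsg.Agent.H648.Wf.DFour
open Cfsg.Agent.FourTwo.Base Cfsg.Agent.FourTwo.AutF4
open Cfsg.Agent.H533.Wf Cfsg.Agent.H897.WfBase Cfsg.Agent.H897.T5Sub

universe u

section general

/-- the image of a non-abelian simple group -/
theorem qs_of_simple {X Y : Type*} [Group X] [Group Y] (hs : IsSimpleGroup X) (hnc : ¬ IsMulCommutative X)
    (f : X →* Y) (hf : Function.Injective f) : QS f.range := by
  refine qs_range ?_ ?_ f ?_
  · rcases hs.eq_bot_or_eq_top_of_normal (commutator X) inferInstance with h | h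
    · exfalso
      apply hnc
      refine ⟨⟨fun a b => ?_⟩⟩
      have h1 : a * b * a⁻¹ * b⁻¹ ∈ commutator X := by
        rw [commutator_def]
        exact Subgroup.commutator_mem_commutator (Subgroup.mem_top a) (Subgroup.mem_top b)
      rw [h, Subgroup.mem_bot] at h1
      calc a * b = (a * b * a⁻¹ * b⁻¹) * (b * a) := by group
        _ = b * a := by rw [h1, one_mul]
    · exact h
  · intro N hN
    rcases hs.eq_bot_or_eq_top_of_normal N hN with h | h
    · exact Or.inr (by rw [h]; exact bot_le)
    · exact Or.inl h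
  · intro h
    obtain ⟨a, ha⟩ := exists_ne (1 : X)
    apply ha
    apply hf
    have h1 : f a ∈ f.range := ⟨a, rfl⟩
    rw [h, Subgroup.mem_bot] at h1
    rw [h1, map_one]

/-- `Red p` for a subgroup without centraliser whose normaliser has index prime to `p`, if the automorphisms of order
`p` are inner -/
theorem red_of_index {S : Type*} [Group S] [Finite S] {p : ℕ} [hp : Fact p.Prime] {L : Subgroup S}
    (hout : ∀ c : MulAut S, orderOf c = p → ∃ l : S, c = MulAut.conj l)
    (hcen : ∀ a : S, (∀ g ∈ L, a * g * a⁻¹ = g) → a = 1)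
    (hidx : ¬ p ∣ (Subgroup.normalizer (L : Set S)).index) : Red p L := by
  intro c hc
  obtain ⟨l, rfl⟩ := hout c hc
  have hinj : Function.Injective (MulAut.conj : S →* MulAut S) := by
    rw [injective_iff_map_eq_one]
    intro a ha
    refine hcen a fun g _ => ?_
    rw [← MulAut.conj_apply, ha]
    rfl
  have hl : orderOf l = p := by rw [← orderOf_injective _ hinj, hc]
  set H := Subgroup.normalizer (L : Set S) with hH
  obtain ⟨P⟩ := (inferInstance : Nonempty (Sylow p H))
  have hS : IsPGroup p ((P : Subgroup H).map H.subtype) := P.2.map _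
  have hi : ¬ p ∣ ((P : Subgroup H).map H.subtype).index := by
    have h4 : ((P : Subgroup H).map H.subtype).index = (P : Subgroup H).index * H.index := by
      rw [Subgroup.index_map_subtype]
    rw [h4, Nat.Prime.dvd_mul hp.out, not_or]
    exact ⟨P.not_dvd_index, hidx⟩
  have hT : IsPGroup p (Subgroup.zpowers l) := by
    refine IsPGroup.of_card (n := 1) ?_
    rw [Nat.card_zpowers, hl, pow_one]
  obtain ⟨g, hg⟩ := exists_conj_mem hS hi hT
  have hgH : g⁻¹ * l * g ∈ H := by
    obtain ⟨y, -, hy⟩ := hg l (Subgroup.mem_zpowers l)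
    rw [← hy]
    exact y.2
  have e : MulAut.conj g⁻¹ * MulAut.conj l * (MulAut.conj g⁻¹)⁻¹ = MulAut.conj (g⁻¹ * l * g) := by
    rw [← map_inv, ← map_mul, ← map_mul, inv_inv]
  refine ⟨MulAut.conj g⁻¹, ⟨g⁻¹, rfl⟩, ?_⟩
  rw [e]
  refine ⟨fun y => (Subgroup.mem_normalizer_iff.1 hgH y).symm, ?_⟩
  by_contra hcon
  push Not at hcon
  have h5 : g⁻¹ * l * g = 1 := hcen _ fun y hy => hcon y hy
  have h6 : l = 1 := by
    have : l = g * (g⁻¹ * l * g) * g⁻¹ := by group
    rw [this, h5]
    group
  rw [h6, orderOf_one] at hl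
  exact hp.out.one_lt.ne hl

end general

/-- automorphisms of order three are inner -/
theorem inner_three {c : MulAut LL} (hc : orderOf c = 3) : ∃ l : LL, c = MulAut.conj l := by
  obtain ⟨l, h | h⟩ := mulAut_gam c
  · exact ⟨l, MulEquiv.ext h⟩
  · have h2 : ∀ g, c (c g) = (l * gam l) * g * (l * gam l)⁻¹ := by
      intro g
      rw [h g, h]
      rw [map_mul, map_mul, map_inv, gam_gam]
      group
    have h3 : c ^ 3 = 1 := by rw [← hc]; exact pow_orderOf_eq_one c
    have h4 : c * c = MulAut.conj (l * gam l) := MulEquiv.ext h2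
    have h5 : c = (MulAut.conj (l * gam l))⁻¹ := by
      rw [← h4, eq_inv_iff_mul_eq_one, ← pow_two, ← pow_succ']
      exact h3
    exact ⟨(l * gam l)⁻¹, by rw [h5, map_inv]⟩

/-- the centraliser of `D₄(2)` is trivial -/
theorem cen {a : LL} (h : ∀ g ∈ kap.range, a * g * a⁻¹ = g) : a = 1 := by
  apply eq_one_of_comm
  intro r hr
  have h1 := h (x (io r)) ⟨xr r, kap_xr hr⟩
  calc a * x (io r) = a * x (io r) * a⁻¹ * a := by group
    _ = x (io r) * a := by rw [h1]

/-- **Every automorphism of order three has an inner conjugate acting non-trivially on `D₄(2)`.** -/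
theorem red : Red 3 kap.range := by
  have hfin : Finite LL := finite_LL
  have h3 : Fact (Nat.Prime 3) := ⟨Nat.prime_three⟩
  exact red_of_index (fun c hc => inner_three hc) (fun a => cen) index_normalizer

/-- `D₄(2)` is `QS` -/
theorem qs : QS kap.range := qs_of_simple simple_DD.1 simple_DD.2 kap kap_injective

theorem range_ne : kap.range ≠ ⊤ := by
  intro h
  exact rot_not_mem (by rw [h]; exact Subgroup.mem_top _)

/-- the row of `F₄(2)` -/
theorem wf_LL : WfRow.{u, 0} 3 LL := by
  have h3 : Fact (Nat.Prime 3) := ⟨Nat.prime_three⟩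
  exact wf_of_red qs range_ne red

/-- **The row of `F₄(F)`, `|F| = 2`.** -/
theorem wf_f4_two {F : Type} [Field F] [Fintype F] (hF : Fintype.card F = 2) :
    WfRow.{u, 0} 3 ↥(chevF4.group F) := by
  have h3 : Fintype.card (ZMod 2) = Fintype.card F := by rw [hF]; rfl
  let φ : ZMod 2 ≃+* F := FiniteField.ringEquivOfCardEq h3
  exact wf_LL.congr (ChevalleyStructure.FieldIso.groupEquiv chevF4 φ)

end Cfsg.Agent.H648.Wf.F4Two
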